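import Mathlib

/-!
# Sequences of short exact sequences and the associated resolution
-/

set_option backward.isDefEq.respectTransparency false
set_option backward.isDefEq.respectTransparency.types false
set_option linter.style.haveILetI false
set_option autoImplicit false

universe v u

open CategoryTheory CategoryTheory.Limits

namespace Groth.Agent.K0Res

variable {C : Type u} [Category.{v} C] [Abelian C]
  (T : ℕ → ShortComplex C) (hT : ∀ i, (T i).ShortExact) (hlink : ∀ i, (T (i + 1)).X₃ = (T i).X₁)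

/-- The differential of the resolution. -/
noncomputable def dT (i : ℕ) : (T (i + 1)).X₂ ⟶ (T i).X₂ :=
  (T (i + 1)).g ≫ eqToHom (hlink i) ≫ (T i).f

lemma dT_comp (i : ℕ) : dT T hlink (i + 1) ≫ dT T hlink i = 0 := by
  simp [dT, ShortComplex.zero_assoc]

/-- The resolution associated with a linked sequence of short complexes. -/
noncomputable def complex : ChainComplex C ℕ :=
  ChainComplex.of (fun i => (T i).X₂) (dT T hlink) (dT_comp T hlink)

lemma complex_X (i : ℕ) : (complex T hlink).X i = (T i).X₂ := rfl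

lemma complex_d (i : ℕ) : (complex T hlink).d (i + 1) i = dT T hlink i := by
  simp [complex]

include hT in
lemma complex_exactAt (i : ℕ) (hi : 1 ≤ i) : (complex T hlink).ExactAt i := by
  obtain ⟨j, rfl⟩ : ∃ j, i = j + 1 := ⟨i - 1, by omega⟩
  rw [HomologicalComplex.exactAt_iff' _ (j + 2) (j + 1) j (by simp) (by simp)]
  have := (hT (j + 2)).epi_g
  have := (hT (j + 1)).mono_f
  have := (hT (j + 1)).epi_g
  have := (hT j).mono_f
  let S' : ShortComplex C := ShortComplex.mk (dT T hlink (j + 1)) (dT T hlink j) (dT_comp T hlink j)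
  let S'' : ShortComplex C := ShortComplex.mk (T (j + 1)).f (dT T hlink j) (by simp [dT])
  let φ1 : S' ⟶ S'' :=
    { τ₁ := (T (j + 2)).g ≫ eqToHom (hlink (j + 1))
      τ₂ := 𝟙 _
      τ₃ := 𝟙 _
      comm₁₂ := by simp [S', S'', dT]
      comm₂₃ := by simp [S', S''] }
  let φ2 : T (j + 1) ⟶ S'' :=
    { τ₁ := 𝟙 _
      τ₂ := 𝟙 _
      τ₃ := eqToHom (hlink j) ≫ (T j).f
      comm₁₂ := by simp [S'']
      comm₂₃ := by simp [S'', dT] }
  have : Epi φ1.τ₁ := epi_comp _ _
  have : IsIso φ1.τ₂ := inferInstanceAs (IsIso (𝟙 _))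
  have : Mono φ1.τ₃ := inferInstanceAs (Mono (𝟙 _))
  have : Epi φ2.τ₁ := inferInstanceAs (Epi (𝟙 _))
  have : IsIso φ2.τ₂ := inferInstanceAs (IsIso (𝟙 _))
  have : Mono φ2.τ₃ := mono_comp _ _
  have h' : S'.Exact := (ShortComplex.exact_iff_of_epi_of_isIso_of_mono φ1).2
    ((ShortComplex.exact_iff_of_epi_of_isIso_of_mono φ2).1 (hT (j + 1)).exact)
  refine ShortComplex.exact_of_iso ?_ h'
  exact ShortComplex.isoMk (Iso.refl _) (Iso.refl _) (Iso.refl _)
    (by
      have := complex_d T hlink (j + 1)
      simp [S', HomologicalComplex.sc', HomologicalComplex.shortComplexFunctor'] at this ⊢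
      exact this)
    (by
      have := complex_d T hlink j
      simp [S', HomologicalComplex.sc', HomologicalComplex.shortComplexFunctor'] at this ⊢
      exact this)

include hT in
/-- `H₀` of the resolution is the target of the augmentation. -/
theorem nonempty_homology_zero_iso :
    Nonempty ((complex T hlink).homology 0 ≅ (T 0).X₃) := by
  have := (hT 1).epi_g
  have := (hT 0).epi_g
  let S' : ShortComplex C := ShortComplex.mk (dT T hlink 0) (T 0).g (by simp [dT])
  let φ : S' ⟶ T 0 :=
    { τ₁ := (T 1).g ≫ eqToHom (hlink 0)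
      τ₂ := 𝟙 _
      τ₃ := 𝟙 _
      comm₁₂ := by simp [S', dT]
      comm₂₃ := by simp [S'] }
  have : Epi φ.τ₁ := epi_comp _ _
  have : IsIso φ.τ₂ := inferInstanceAs (IsIso (𝟙 _))
  have : Mono φ.τ₃ := inferInstanceAs (Mono (𝟙 _))
  have h' : S'.Exact := (ShortComplex.exact_iff_of_epi_of_isIso_of_mono φ).2 (hT 0).exact
  have : Epi S'.g := (hT 0).epi_g
  have hd : (complex T hlink).d 1 0 = dT T hlink 0 := complex_d T hlink 0
  let hc := (complex T hlink).opcyclesIsCokernel 1 0 (by simp)
  let hc' : IsColimit (CokernelCofork.ofπ (f := (complex T hlink).d 1 0) (T 0).g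
      (by rw [hd]; exact S'.zero)) :=
    CokernelCofork.IsColimit.ofπ _ _
      (fun k hk => h'.gIsCokernel.desc (CokernelCofork.ofπ k (by
        rw [← hk, hd])))
      (fun k hk => h'.gIsCokernel.fac _ WalkingParallelPair.one)
      (fun k hk m hm => by
        rw [← cancel_epi (T 0).g, hm]
        exact (h'.gIsCokernel.fac (CokernelCofork.ofπ k _) WalkingParallelPair.one).symm)
  exact ⟨(complex T hlink).isoHomologyι₀ ≪≫ hc.coconePointUniqueUpToIso hc'⟩

include hT in
/-- The cycles in degree `d + 1` of the resolution. -/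
theorem nonempty_cycles_iso (d : ℕ) :
    Nonempty ((complex T hlink).cycles (d + 1) ≅ (T (d + 1)).X₁) := by
  have := (hT d).mono_f
  have hd : (complex T hlink).d (d + 1) d = dT T hlink d := complex_d T hlink d
  let S'' : ShortComplex C := ShortComplex.mk (T (d + 1)).f (dT T hlink d) (by simp [dT])
  let φ2 : T (d + 1) ⟶ S'' :=
    { τ₁ := 𝟙 _
      τ₂ := 𝟙 _
      τ₃ := eqToHom (hlink d) ≫ (T d).f
      comm₁₂ := by simp [S'']
      comm₂₃ := by simp [S'', dT] }
  have : Epi φ2.τ₁ := inferInstanceAs (Epi (𝟙 _))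
  have : IsIso φ2.τ₂ := inferInstanceAs (IsIso (𝟙 _))
  have : Mono φ2.τ₃ := mono_comp _ _
  have h' : S''.Exact := (ShortComplex.exact_iff_of_epi_of_isIso_of_mono φ2).1 (hT (d + 1)).exact
  have : Mono S''.f := (hT (d + 1)).mono_f
  let hc := (complex T hlink).cyclesIsKernel (d + 1) d (by simp)
  let hc' : IsLimit (KernelFork.ofι (f := (complex T hlink).d (d + 1) d) (T (d + 1)).f
      (by rw [hd]; exact S''.zero)) :=
    KernelFork.IsLimit.ofι _ _
      (fun k hk => h'.fIsKernel.lift (KernelFork.ofι k (by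
        rw [← hk, hd])))
      (fun k hk => h'.fIsKernel.fac _ WalkingParallelPair.zero)
      (fun k hk m hm => by
        rw [← cancel_mono (T (d + 1)).f, hm]
        exact (h'.fIsKernel.fac (KernelFork.ofι k _) WalkingParallelPair.zero).symm)
  exact ⟨hc.conePointUniqueUpToIso hc'⟩

end Groth.Agent.K0Res
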