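import Groth.Prelude.Def_SGA6
import Groth.Agent.K0Res.Chain

/-!
# The resolution theorem for `K₀` of classes of objects of an abelian category
-/

set_option backward.isDefEq.respectTransparency false
set_option backward.isDefEq.respectTransparency.types false
set_option linter.style.haveILetI false
set_option autoImplicit false

universe v u

open CategoryTheory CategoryTheory.Limits

namespace Groth.Agent.K0Res

variable {C : Type u} [Category.{v} C] [Abelian C]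

lemma clSub_eq (P : ObjectProperty C) {X : C} (h : P X) :
    KZero.clSub P X = QuotientAddGroup.mk (FreeAbelianGroup.of ⟨X, h⟩) := by
  simp [KZero.clSub, h]

lemma clSub_add (P : ObjectProperty C) {S : ShortComplex C} (hS : S.ShortExact)
    (h₁ : P S.X₁) (h₂ : P S.X₂) (h₃ : P S.X₃) :
    KZero.clSub P S.X₂ = KZero.clSub P S.X₁ + KZero.clSub P S.X₃ := by
  rw [clSub_eq P h₁, clSub_eq P h₂, clSub_eq P h₃, ← QuotientAddGroup.mk_add,
    QuotientAddGroup.eq_iff_sub_mem]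
  rw [← sub_sub]
  exact AddSubgroup.subset_closure ⟨S, h₁, h₂, h₃, hS, rfl⟩

/-- The kernel of an epimorphism, as a short complex. -/
noncomputable def kerSeq {L A : C} (q : L ⟶ A) : ShortComplex C :=
  ShortComplex.mk (kernel.ι q) q (kernel.condition q)

lemma kerSeq_shortExact {L A : C} (q : L ⟶ A) [Epi q] : (kerSeq q).ShortExact := by
  have : Mono (kerSeq q).f := inferInstanceAs (Mono (kernel.ι q))
  have : Epi (kerSeq q).g := inferInstanceAs (Epi q)
  exact { exact := ShortComplex.exact_of_f_is_kernel _ (kernelIsKernel q) }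

/-- For `L ⟶ A` epi and `A ⟶ A''` with kernel `A'`, the induced sequence
`0 ⟶ ker(L ⟶ A) ⟶ ker(L ⟶ A'') ⟶ A' ⟶ 0`. -/
theorem exists_refine (S : ShortComplex C) (hS : S.ShortExact) {L : C} (q : L ⟶ S.X₂) [Epi q] :
    ∃ (a : kernel q ⟶ kernel (q ≫ S.g)) (b : kernel (q ≫ S.g) ⟶ S.X₁) (w : a ≫ b = 0),
      (ShortComplex.mk a b w).ShortExact := by
  have := hS.mono_f
  have := hS.epi_g
  obtain ⟨b, hb⟩ : ∃ b : kernel (q ≫ S.g) ⟶ S.X₁, b ≫ S.f = kernel.ι (q ≫ S.g) ≫ q :=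
    ⟨hS.exact.lift (kernel.ι (q ≫ S.g) ≫ q) (by simp),
      hS.exact.lift_f _ _⟩
  refine ⟨kernel.lift _ (kernel.ι q) (by rw [kernel.condition_assoc, zero_comp]), b, ?_, ?_⟩
  · rw [← cancel_mono S.f, Category.assoc, hb, kernel.lift_ι_assoc, kernel.condition, zero_comp]
  · have : Mono (kernel.lift (q ≫ S.g) (kernel.ι q) (by rw [kernel.condition_assoc, zero_comp])) :=
      mono_of_mono_fac (kernel.lift_ι _ _ _)
    have : Epi b := by
      rw [epi_iff_surjective_up_to_refinements]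
      intro Z x
      obtain ⟨Z', π, hπ, y, hy⟩ := surjective_up_to_refinements_of_epi q (x ≫ S.f)
      refine ⟨Z', π, hπ, kernel.lift _ y (by
        rw [← Category.assoc, ← hy]; simp), ?_⟩
      rw [← cancel_mono S.f, Category.assoc, Category.assoc, hb, kernel.lift_ι_assoc, hy]
    refine { exact := ?_, mono_f := ?_, epi_g := ?_ }
    · rw [ShortComplex.exact_iff_exact_up_to_refinements]
      intro Z x hx
      dsimp at x hx
      refine ⟨Z, 𝟙 _, inferInstance, kernel.lift q (x ≫ kernel.ι (q ≫ S.g)) ?_, ?_⟩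
      · rw [Category.assoc, ← hb, reassoc_of% hx, zero_comp]
      · rw [← cancel_mono (kernel.ι (q ≫ S.g))]
        simp
    · assumption
    · assumption

variable (P₀ P₁ : ObjectProperty C)

/-- The hypotheses of the resolution theorem. -/
structure Hyp : Prop where
  iso₀ : P₀.IsClosedUnderIsomorphisms
  iso₁ : P₁.IsClosedUnderIsomorphisms
  le : ∀ X, P₀ X → P₁ X
  ext₁ : ∀ S : ShortComplex C, S.ShortExact → P₁ S.X₁ → P₁ S.X₃ → P₁ S.X₂
  ker₀ : ∀ S : ShortComplex C, S.ShortExact → P₀ S.X₂ → P₀ S.X₃ → P₀ S.X₁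
  ker₁ : ∀ S : ShortComplex C, S.ShortExact → P₁ S.X₂ → P₁ S.X₃ → P₁ S.X₁
  lift : ∀ (A B D : C) (u : A ⟶ B) (v : D ⟶ B), Epi u → P₁ A → P₁ B → P₁ D →
    ∃ (L : C) (u' : L ⟶ D) (v' : L ⟶ A), P₀ L ∧ Epi u' ∧ u' ≫ v = v' ≫ u

variable {P₀ P₁}

/-- An infinite resolution, as a linked sequence of short exact sequences. -/
def IsRes (P₀ : ObjectProperty C) (T : ℕ → ShortComplex C) : Prop :=
  ∀ i, (T i).ShortExact ∧ P₀ (T i).X₂ ∧ (T (i + 1)).X₃ = (T i).X₁

variable (P₀ P₁) in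
/-- `D n A`: in every resolution of `A` the `n`-th syzygy is in `P₀`. -/
def D (n : ℕ) (A : C) : Prop :=
  P₁ A ∧ ∀ T, IsRes P₀ T → (T 0).X₃ = A → P₀ (T n).X₃

variable (h : Hyp P₀ P₁)
include h

lemma exists_cover {A : C} (hA : P₁ A) :
    ∃ S : ShortComplex C, S.ShortExact ∧ P₀ S.X₂ ∧ S.X₃ = A := by
  obtain ⟨L, u', v', hL, hu', -⟩ := h.lift A A A (𝟙 A) (𝟙 A) inferInstance hA hA hA
  exact ⟨kerSeq u', kerSeq_shortExact u', hL, rfl⟩

lemma exists_res {A : C} (hA : P₁ A) : ∃ T, IsRes P₀ T ∧ (T 0).X₃ = A := by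
  choose cov hcov using fun (B : {B : C // P₁ B}) => exists_cover h B.2
  let next : {B : C // P₁ B} → {B : C // P₁ B} := fun B =>
    ⟨(cov B).X₁, h.ker₁ _ (hcov B).1 (h.le _ (hcov B).2.1) (by
      rw [(hcov B).2.2]; exact B.2)⟩
  refine ⟨fun i => cov (next^[i] ⟨A, hA⟩), fun i => ⟨(hcov _).1, (hcov _).2.1, ?_⟩,
    (hcov ⟨A, hA⟩).2.2⟩
  change (cov (next^[i + 1] ⟨A, hA⟩)).X₃ = _
  rw [(hcov _).2.2, Function.iterate_succ_apply']

lemma D_zero {A : C} (hA : P₀ A) : D P₀ P₁ 0 A :=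
  ⟨h.le _ hA, fun T _ hT => by rw [hT]; exact hA⟩

lemma D_zero_mem {A : C} (hA : D P₀ P₁ 0 A) : P₀ A := by
  obtain ⟨T, hT, hT0⟩ := exists_res h hA.1
  exact hT0 ▸ hA.2 T hT hT0

lemma D_succ {n : ℕ} {A : C} (hA : D P₀ P₁ n A) : D P₀ P₁ (n + 1) A :=
  ⟨hA.1, fun T hT hT0 => by
    rw [(hT n).2.2]
    exact h.ker₀ _ (hT n).1 (hT n).2.1 (hA.2 T hT hT0)⟩

lemma D_le {n m : ℕ} (hnm : n ≤ m) {A : C} (hA : D P₀ P₁ n A) : D P₀ P₁ m A := by
  induction m, hnm using Nat.le_induction with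
  | base => exact hA
  | succ k _ ih => exact D_succ h ih

lemma D_mem {n : ℕ} {A : C} (hA : P₀ A) : D P₀ P₁ n A := D_le h (Nat.zero_le n) (D_zero h hA)

lemma D_ker {n : ℕ} {S : ShortComplex C} (hS : S.ShortExact) (hL : P₀ S.X₂)
    (hA : D P₀ P₁ (n + 1) S.X₃) : D P₀ P₁ n S.X₁ := by
  refine ⟨h.ker₁ _ hS (h.le _ hL) hA.1, fun T hT hT0 => ?_⟩
  have := hA.2 (fun i => Nat.casesOn i S T) (fun i => ?_) rfl
  · exact this
  · cases i with
    | zero => exact ⟨hS, hL, hT0⟩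
    | succ j => exact hT j

omit h in
open Classical in
/-- The Euler characteristic computed with `n` chosen covers. -/
noncomputable def chi (h : Hyp P₀ P₁) : ℕ → C → KZero.K0sub P₀
  | 0, A => KZero.clSub P₀ A
  | n + 1, A =>
    if hA : P₁ A then
      KZero.clSub P₀ (exists_cover h hA).choose.X₂ - chi h n (exists_cover h hA).choose.X₁
    else 0

/-- Additivity of `chi n` on short exact sequences in `D n`. -/
def AddAt (h : Hyp P₀ P₁) (n : ℕ) : Prop :=
  ∀ S : ShortComplex C, S.ShortExact → D P₀ P₁ n S.X₁ → D P₀ P₁ n S.X₂ → D P₀ P₁ n S.X₃ →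
    chi h n S.X₂ = chi h n S.X₁ + chi h n S.X₃

/-- Independence of `chi (n + 1)` of the cover. -/
def IndepAt (h : Hyp P₀ P₁) (n : ℕ) : Prop :=
  ∀ S : ShortComplex C, S.ShortExact → P₀ S.X₂ → D P₀ P₁ (n + 1) S.X₃ →
    chi h (n + 1) S.X₃ = KZero.clSub P₀ S.X₂ - chi h n S.X₁

/-- Compatibility of `chi (n + 1)` with `chi n`. -/
def CompatAt (h : Hyp P₀ P₁) (n : ℕ) : Prop :=
  ∀ A, D P₀ P₁ n A → chi h (n + 1) A = chi h n A

lemma chi_mem_of_compat {n : ℕ} (hn : ∀ m < n, CompatAt h m) {A : C} (hA : P₀ A) :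
    chi h n A = KZero.clSub P₀ A := by
  induction n with
  | zero => simp [chi]
  | succ k ih =>
    rw [hn k (Nat.lt_succ_self k) A (D_mem h hA), ih (fun m hm => hn m (by omega))]

lemma indepAt_of_addAt {n : ℕ} (hn : AddAt h n) (hc : ∀ m < n, CompatAt h m) : IndepAt h n := by
  have key : ∀ (S : ShortComplex C), S.ShortExact → P₀ S.X₂ → D P₀ P₁ (n + 1) S.X₃ →
      ∀ (L : C) (a : L ⟶ S.X₂), P₀ L → Epi a →
      KZero.clSub P₀ L - chi h n (kernel (a ≫ S.g)) = KZero.clSub P₀ S.X₂ - chi h n S.X₁ := by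
    intro S hS hS2 hA L a hL ha
    obtain ⟨i, b, w, hw⟩ := exists_refine S hS a
    have := hS.epi_g
    have : Epi (a ≫ S.g) := epi_comp _ _
    have hN : P₀ (kernel a) := h.ker₀ _ (kerSeq_shortExact a) hL hS2
    have h1 := hn _ hw (D_mem h hN) (D_ker h (kerSeq_shortExact (a ≫ S.g)) hL hA) (D_ker h hS hS2 hA)
    dsimp at h1
    rw [h1, chi_mem_of_compat h hc hN]
    have h2 := clSub_add P₀ (kerSeq_shortExact a) hN hL hS2
    dsimp [kerSeq] at h2
    rw [h2]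
    abel
  have key' : ∀ (S : ShortComplex C) (A : C) (e : S.X₃ = A), S.ShortExact → P₀ S.X₂ →
      D P₀ P₁ (n + 1) A → ∀ (L : C) (a : L ⟶ S.X₂), P₀ L → Epi a →
      KZero.clSub P₀ L - chi h n (kernel (a ≫ S.g ≫ eqToHom e)) =
        KZero.clSub P₀ S.X₂ - chi h n S.X₁ := by
    intro S A e hS hS2 hA L a hL ha
    subst e
    simpa using key S hS hS2 hA L a hL ha
  have two : ∀ (A : C) (S S' : ShortComplex C), S.ShortExact → S'.ShortExact → P₀ S.X₂ →
      P₀ S'.X₂ → D P₀ P₁ (n + 1) A → S.X₃ = A → S'.X₃ = A →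
      KZero.clSub P₀ S.X₂ - chi h n S.X₁ = KZero.clSub P₀ S'.X₂ - chi h n S'.X₁ := by
    intro A S S' hS hS' hS2 hS2' hA e e'
    have := hS.epi_g
    have := hS'.epi_g
    let q : S.X₂ ⟶ A := S.g ≫ eqToHom e
    let q' : S'.X₂ ⟶ A := S'.g ≫ eqToHom e'
    have : Epi q := epi_comp _ _
    have : Epi q' := epi_comp _ _
    have : Epi (pullback.snd q q') := Abelian.epi_pullback_of_epi_f q q'
    have : Epi (pullback.fst q q') := Abelian.epi_pullback_of_epi_g q q'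
    have hFker : P₁ (kernel (pullback.snd q q')) := by
      have := isIso_kernel_map_of_isPullback (IsPullback.of_hasPullback q q').flip
      haveI := h.iso₁
      exact P₁.prop_of_iso (asIso (kernel.map (pullback.snd q q') q (pullback.fst q q') q'
        pullback.condition.symm)).symm
        (h.ker₁ _ (kerSeq_shortExact q) (h.le _ hS2) hA.1)
    have hF : P₁ (pullback q q') :=
      h.ext₁ _ (kerSeq_shortExact (pullback.snd q q')) hFker (h.le _ hS2')
    obtain ⟨T, hT, hT2, hT3⟩ := exists_cover h hF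
    have := hT.epi_g
    let c : T.X₂ ⟶ pullback q q' := T.g ≫ eqToHom hT3
    have : Epi c := epi_comp _ _
    have e₁ := key' S A e hS hS2 hA _ (c ≫ pullback.fst q q') hT2 inferInstance
    have e₂ := key' S' A e' hS' hS2' hA _ (c ≫ pullback.snd q q') hT2 inferInstance
    have ec : (c ≫ pullback.fst q q') ≫ S.g ≫ eqToHom e =
        (c ≫ pullback.snd q q') ≫ S'.g ≫ eqToHom e' := by
      change (c ≫ pullback.fst q q') ≫ q = (c ≫ pullback.snd q q') ≫ q'
      simp only [Category.assoc, pullback.condition]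
    rw [ec] at e₁
    rw [← e₁, ← e₂]
  intro S hS hS2 hA
  obtain ⟨h1, h2, h3⟩ := (exists_cover h hA.1).choose_spec
  simp only [chi, dif_pos hA.1]
  exact two _ _ S h1 hS h2 hS2 hA h3 rfl

lemma compatAt_zero (hi : IndepAt h 0) : CompatAt h 0 := by
  intro A hA
  have hA0 := D_zero_mem h hA
  rw [show A = (kerSeq (𝟙 A)).X₃ from rfl,
    hi (kerSeq (𝟙 A)) (kerSeq_shortExact _) hA0 (D_succ h hA)]
  have hk : P₀ (kernel (𝟙 A)) := h.ker₀ _ (kerSeq_shortExact (𝟙 A)) hA0 hA0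
  have := clSub_add P₀ (kerSeq_shortExact (𝟙 A)) hk hA0 hA0
  simp only [chi]
  dsimp [kerSeq] at this ⊢
  rw [eq_comm, eq_sub_iff_add_eq, add_comm]
  exact this.symm

lemma compatAt_succ {n : ℕ} (hc : CompatAt h n) : CompatAt h (n + 1) := by
  intro A hA
  obtain ⟨h1, h2, h3⟩ := (exists_cover h hA.1).choose_spec
  have e₁ : chi h (n + 1 + 1) A = KZero.clSub P₀ (exists_cover h hA.1).choose.X₂ -
      chi h (n + 1) (exists_cover h hA.1).choose.X₁ := by
    rw [chi, dif_pos hA.1]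
  have e₂ : chi h (n + 1) A = KZero.clSub P₀ (exists_cover h hA.1).choose.X₂ -
      chi h n (exists_cover h hA.1).choose.X₁ := by
    rw [chi, dif_pos hA.1]
  rw [e₁, e₂, hc _ (D_ker h h1 h2 (by rw [h3]; exact hA))]

lemma addAt_succ {n : ℕ} (ha : AddAt h n) (hi : IndepAt h n) (hc : CompatAt h n) :
    AddAt h (n + 1) := by
  -- the first step: a sequence in `D (n+1)` reduces to one with two terms in `D n`
  have step : ∀ (S : ShortComplex C), S.ShortExact → D P₀ P₁ (n + 1) S.X₂ →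
      D P₀ P₁ (n + 1) S.X₃ →
      ∃ (K K'' : C) (a : K ⟶ K'') (b : K'' ⟶ S.X₁) (w : a ≫ b = 0),
        (ShortComplex.mk a b w).ShortExact ∧ D P₀ P₁ n K ∧ D P₀ P₁ n K'' ∧
        chi h (n + 1) S.X₂ - chi h (n + 1) S.X₃ = chi h n K'' - chi h n K := by
    intro S hS h2 h3
    obtain ⟨T, hT, hT2, hT3⟩ := exists_cover h h2.1
    have := hT.epi_g
    have := hS.epi_g
    let q : T.X₂ ⟶ S.X₂ := T.g ≫ eqToHom hT3
    have : Epi q := epi_comp _ _
    have : Epi (q ≫ S.g) := epi_comp _ _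
    obtain ⟨a, b, w', hw⟩ := exists_refine S hS q
    refine ⟨kernel q, kernel (q ≫ S.g), a, b, w', hw,
      D_ker h (kerSeq_shortExact q) hT2 h2, D_ker h (kerSeq_shortExact (q ≫ S.g)) hT2 h3, ?_⟩
    have e₁ := hi (kerSeq q) (kerSeq_shortExact q) hT2 h2
    have e₂ := hi (kerSeq (q ≫ S.g)) (kerSeq_shortExact (q ≫ S.g)) hT2 h3
    dsimp [kerSeq] at e₁ e₂
    rw [e₁, e₂]
    abel
  intro S hS h1 h2 h3
  obtain ⟨K, K'', a, b, w, hw, hK, hK'', e⟩ := step S hS h2 h3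
  obtain ⟨M, M'', a', b', w', hw', hM, hM'', e'⟩ := step _ hw (D_succ h hK'') h1
  have h4 := ha _ hw' hM hM'' hK
  dsimp at e' h4 ⊢
  rw [hc _ hK''] at e'
  rw [h4] at e'
  have : chi h (n + 1) S.X₂ = chi h (n + 1) S.X₁ + chi h (n + 1) S.X₃ := by
    have e3 : chi h (n + 1) S.X₂ - chi h (n + 1) S.X₃ - chi h (n + 1) S.X₁ = 0 := by
      rw [e]
      have : chi h n K'' - chi h (n + 1) S.X₁ = chi h n K := by rw [e']; abel
      rw [← this]
      abel
    rw [sub_sub, sub_eq_zero] at e3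
    rw [e3, add_comm]
  exact this

lemma main (n : ℕ) : AddAt h n ∧ IndepAt h n ∧ CompatAt h n := by
  induction n using Nat.strong_induction_on with
  | _ n ih =>
    cases n with
    | zero =>
      have ha : AddAt h 0 := fun S hS h1 h2 h3 =>
        clSub_add P₀ hS (D_zero_mem h h1) (D_zero_mem h h2) (D_zero_mem h h3)
      have hi := indepAt_of_addAt h ha (fun m hm => absurd hm (Nat.not_lt_zero m))
      exact ⟨ha, hi, compatAt_zero h hi⟩
    | succ k =>
      obtain ⟨ha, hi, hc⟩ := ih k (Nat.lt_succ_self k)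
      have ha' := addAt_succ h ha hi hc
      exact ⟨ha', indepAt_of_addAt h ha' (fun m hm => (ih m hm).2.2), compatAt_succ h hc⟩

lemma chi_eq_of_le {n m : ℕ} (hnm : n ≤ m) {A : C} (hA : D P₀ P₁ n A) :
    chi h m A = chi h n A := by
  induction m, hnm using Nat.le_induction with
  | base => rfl
  | succ k hk ih => rw [(main h k).2.2 A (D_le h hk hA), ih]

lemma map_chi (n : ℕ) {A : C} (hA : D P₀ P₁ n A) :
    SGA6.mapSub (𝟭 C) P₀ P₁ h.le (chi h n A) = KZero.clSub P₁ A := by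
  induction n generalizing A with
  | zero =>
    have := D_zero_mem h hA
    simp [chi, clSub_eq P₀ this, clSub_eq P₁ hA.1, SGA6.mapSub, SGA6.objMap]
  | succ k ih =>
    obtain ⟨h1, h2, h3⟩ := (exists_cover h hA.1).choose_spec
    have hK := D_ker h h1 h2 (by rw [h3]; exact hA)
    rw [chi, dif_pos hA.1, map_sub, ih hK]
    have := clSub_add P₁ h1 hK.1 (h.le _ h2) (by rw [h3]; exact hA.1)
    rw [h3] at this
    have e : SGA6.mapSub (𝟭 C) P₀ P₁ h.le (KZero.clSub P₀ (exists_cover h hA.1).choose.X₂) =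
        KZero.clSub P₁ (exists_cover h hA.1).choose.X₂ := by
      simp [clSub_eq P₀ h2, clSub_eq P₁ (h.le _ h2), SGA6.mapSub, SGA6.objMap]
    rw [e, this]
    abel

/-- **The resolution theorem.** -/
theorem bijective (hdim : ∀ A, P₁ A → ∃ n, D P₀ P₁ n A) :
    Function.Bijective (SGA6.mapSub (𝟭 C) P₀ P₁ h.le) := by
  choose N hN using fun (A : Subtype P₁) => hdim A.1 A.2
  let f : FreeAbelianGroup (Subtype P₁) →+ KZero.K0sub P₀ :=
    FreeAbelianGroup.lift (fun A => chi h (N A) A.1)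
  have hf : KZero.relSub P₁ ≤ f.ker := by
    rw [KZero.relSub, AddSubgroup.closure_le]
    rintro x ⟨S, h₁, h₂, h₃, hS, rfl⟩
    let m := N ⟨_, h₁⟩ + N ⟨_, h₂⟩ + N ⟨_, h₃⟩
    have e := (main h m).1 S hS (D_le h (by omega) (hN ⟨_, h₁⟩)) (D_le h (by omega) (hN ⟨_, h₂⟩))
      (D_le h (by omega) (hN ⟨_, h₃⟩))
    rw [chi_eq_of_le h (show N ⟨_, h₁⟩ ≤ m by omega) (hN ⟨_, h₁⟩),
      chi_eq_of_le h (show N ⟨_, h₂⟩ ≤ m by omega) (hN ⟨_, h₂⟩),
      chi_eq_of_le h (show N ⟨_, h₃⟩ ≤ m by omega) (hN ⟨_, h₃⟩)] at e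
    simp only [SetLike.mem_coe, AddMonoidHom.mem_ker, map_sub, f, FreeAbelianGroup.lift_apply_of]
    rw [e]
    abel
  let ψ : KZero.K0sub P₁ →+ KZero.K0sub P₀ := QuotientAddGroup.lift _ f hf
  refine Function.bijective_iff_has_inverse.2 ⟨ψ, fun x => ?_, fun x => ?_⟩
  · have : ψ.comp (SGA6.mapSub (𝟭 C) P₀ P₁ h.le) = AddMonoidHom.id _ := by
      ext ⟨A, hA⟩
      have e := chi_eq_of_le h (Nat.zero_le (N ⟨A, h.le A hA⟩)) (D_zero h hA)
      simp [ψ, f, SGA6.mapSub, SGA6.objMap, e, chi, clSub_eq P₀ hA]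
    exact DFunLike.congr_fun this x
  · have : (SGA6.mapSub (𝟭 C) P₀ P₁ h.le).comp ψ = AddMonoidHom.id _ := by
      ext ⟨A, hA⟩
      have e := map_chi h (N ⟨A, hA⟩) (hN ⟨A, hA⟩)
      simpa [ψ, f, clSub_eq P₁ hA] using e
    exact DFunLike.congr_fun this x

end Groth.Agent.K0Res
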